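import Groth.Agent.Lib.SymAlg.Exists
import Groth.Agent.Lib.Ample.Basis
import Groth.Agent.Lib.TensorMod.QCohInv
import Groth.Agent.H60.LinB.Coef
import Mathlib.LinearAlgebra.SymmetricAlgebra.Basic

/-!
The total space of an invertible module with coordinates given by sections.
-/

set_option autoImplicit false
set_option linter.style.haveILetI false

universe u

open CategoryTheory Limits AlgebraicGeometry TopologicalSpace Opposite
open Groth.Agent.Lib Groth.Agent.Lib.TensorMod.Gen Groth.Agent.Lib.TensorMod.Dual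

namespace Groth.Agent.H60.TotBun

noncomputable section

/-- The symmetric algebra of a free module of rank one is the polynomial ring. -/
theorem bijective_eval_sym {R : Type u} [CommRing R] {M : Type u} [AddCommGroup M] [Module R M] (e : M)
    (he : Function.Bijective fun a : R => a • e) :
    Function.Bijective (Polynomial.eval₂RingHom (algebraMap R (SymmetricAlgebra R M)) (SymmetricAlgebra.ι R M e)) := by
  let q : R ≃ₗ[R] M := LinearEquiv.ofBijective (LinearMap.toSpanSingleton R M e) he
  let back : SymmetricAlgebra R M →ₐ[R] Polynomial R :=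
    SymmetricAlgebra.lift ((Polynomial.monomial 1).comp q.symm.toLinearMap)
  let fwd : Polynomial R →ₐ[R] SymmetricAlgebra R M := Polynomial.aeval (SymmetricAlgebra.ι R M e)
  have hq : q.symm e = 1 := by
    rw [LinearEquiv.symm_apply_eq]
    simp [q]
  have h1 : back.comp fwd = AlgHom.id R _ := by
    refine Polynomial.algHom_ext ?_
    show back (fwd Polynomial.X) = Polynomial.X
    rw [Polynomial.aeval_X, SymmetricAlgebra.lift_ι_apply]
    show Polynomial.monomial 1 (q.symm e) = _
    rw [hq, Polynomial.monomial_one_one_eq_X]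
  have h2 : fwd.comp back = AlgHom.id R _ := by
    refine SymmetricAlgebra.algHom_ext (LinearMap.ext fun m => ?_)
    obtain ⟨r, rfl⟩ := he.2 m
    show fwd (back (SymmetricAlgebra.ι R M (r • e))) = SymmetricAlgebra.ι R M (r • e)
    rw [SymmetricAlgebra.lift_ι_apply, map_smul, map_smul]
    show r • fwd (Polynomial.monomial 1 (q.symm e)) = _
    rw [hq, Polynomial.monomial_one_one_eq_X, Polynomial.aeval_X, map_smul]
  exact Function.bijective_iff_has_inverse.2 ⟨back, fun z => AlgHom.congr_fun h1 z, fun z => AlgHom.congr_fun h2 z⟩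

/-- The total space of an invertible module, with the functions of given sections. -/
theorem exists_tot {Y : Scheme.{u}} {L : Y.Modules} (hL : PicF.IsInvertible L) {J : Type u}
    (s : J → (Coh.structureModule Y ⟶ L)) :
    ∃ (V : Scheme.{u}) (p : V ⟶ Y) (_ : IsAffineHom p) (f : J → Γ(V, ⊤)),
      (∀ (i : J) (W : Y.Opens), IsAffineOpen W → W ≤ CohB1.genLocus L (s i) →
        Function.Bijective (Polynomial.eval₂RingHom (p.app W).hom
          (V.presheaf.map (homOfLE (le_top (a := p ⁻¹ᵁ W))).op (f i)))) ∧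
      ∀ i j : J, ∃ c : Γ(Y, CohB1.genLocus L (s i)),
        V.presheaf.map (homOfLE le_top).op (f j) =
          p.app _ c * V.presheaf.map (homOfLE (le_top (a := p ⁻¹ᵁ CohB1.genLocus L (s i)))).op (f i) ∧
        Y.basicOpen c = CohB1.genLocus L (s i) ⊓ CohB1.genLocus L (s j) := by
  haveI := TensorMod.QCohInv.isQCoh_of_isInvertible hL
  let H := SymAlg.Exists.isQC L
  let V := AlgGlue.Basic.spec H
  let p : V ⟶ Y := AlgGlue.Basic.proj H
  let ev : ∀ U : Y.Opens, Γ(L, U) → Γ(V, p ⁻¹ᵁ U) := fun U m =>
    AlgGlue.Basic.theta H U (SymmetricAlgebra.ι Γ(Y, U) Γ(L, U) m)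
  have hev : ∀ (U U' : Y.Opens) (h : U' ≤ U) (m : Γ(L, U)),
      V.presheaf.map (homOfLE (p.preimage_mono h)).op (ev U m) = ev U' (rs L h m) := fun U U' h m => by
    refine (AlgGlue.Basic.theta_res H h _).trans (congrArg (AlgGlue.Basic.theta H U') ?_)
    exact SymAlg.Exists.resSy_ι L h m
  let f : J → Γ(V, ⊤) := fun i => ev ⊤ (Ample.GenLocus.sv (s i) ⊤)
  have hf : ∀ (U : Y.Opens) (i : J),
      V.presheaf.map (homOfLE (le_top (a := p ⁻¹ᵁ U))).op (f i) = ev U (Ample.GenLocus.sv (s i) U) := fun U i => by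
    refine (hev ⊤ U le_top _).trans ?_
    rw [Ample.GenLocus.rs_sv]
  refine ⟨V, p, AlgGlue.Basic.isAffineHom_proj H, f, fun i W hW hWD => ?_, fun i j => ?_⟩
  · rw [hf]
    have hg : IsGen L W (Ample.GenLocus.sv (s i) W) := by
      have := (Ample.Basis.isGen_genLocus (s i)).res hWD
      rwa [Ample.GenLocus.rs_sv] at this
    have hb : Function.Bijective fun a : Γ(Y, W) => a • Ample.GenLocus.sv (s i) W := by
      have := hg W le_rfl
      rwa [rs_self] at this
    have h1 := bijective_eval_sym (R := Γ(Y, W)) (Ample.GenLocus.sv (s i) W) hb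
    have h2 : Polynomial.eval₂RingHom (p.app W).hom (ev W (Ample.GenLocus.sv (s i) W)) =
        (AlgGlue.Basic.theta H W).comp (Polynomial.eval₂RingHom (algebraMap Γ(Y, W) (SymAlg.Exists.Sy L W))
          (SymmetricAlgebra.ι Γ(Y, W) Γ(L, W) (Ample.GenLocus.sv (s i) W))) := by
      refine Polynomial.ringHom_ext (fun r => ?_) ?_
      · simp only [Polynomial.coe_eval₂RingHom, RingHom.comp_apply, Polynomial.eval₂_C]
        exact (AlgGlue.Basic.theta_app H W r).symm
      · simp [ev]
    rw [h2]
    exact (AlgGlue.Basic.theta_bijective H hW).comp h1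
  · obtain ⟨c, hc⟩ := ((Ample.Basis.isGen_genLocus (s i)) _ le_rfl).2 (Ample.GenLocus.sv (s j) _)
    simp only [rs_self] at hc
    refine ⟨c, ?_, ?_⟩
    · rw [hf, hf]
      show AlgGlue.Basic.theta H _ _ = _
      rw [← hc, map_smul, Algebra.smul_def]
      refine (map_mul (AlgGlue.Basic.theta H _) _ _).trans (congrArg (· * _) ?_)
      exact AlgGlue.Basic.theta_app H _ c
    · rw [← Ample.Basis.genLocus_eq_basicOpen_of_sv (Ample.Basis.isGen_genLocus (s i)) hc.symm, inf_comm]

end

end Groth.Agent.H60.TotBun
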