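import Groth.Agent.H60.AffQuot.Geom
import Groth.Prelude.Def_GLinSh

/-!
Orbits of geometric points over an affine open of the base of a geometric quotient are closed.
-/

set_option autoImplicit false
set_option linter.style.haveILetI false

universe u

open CategoryTheory CategoryTheory.Limits MonoidalCategory CartesianMonoidalCategory MonObj AlgebraicGeometry
  TopologicalSpace

namespace Groth.Agent.H60.TotBun

noncomputable section

variable {k : Type u} [Field k] {G X Y : Over (Spec (CommRingCat.of k))} [GrpObj G] {a : AlgGrp.Action G X}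

theorem closedOrbitsOn_preimage {φ : X ⟶ Y} (h : GIT.IsGeomQuot a φ) {D : Y.left.Opens} (hD : IsAffineOpen D) :
    GLinSh.ClosedOrbitsOn a (φ.left ⁻¹ᵁ D) := by
  intro Ω _ _ T i f hf
  let s : T ⟶ Y := f ≫ φ
  let P : Over (Spec (CommRingCat.of k)) := Over.mk (pullback.fst φ.left s.left ≫ X.hom)
  let pX : P ⟶ X := Over.homMk (pullback.fst φ.left s.left) rfl
  let pT : P ⟶ T := Over.homMk (pullback.snd φ.left s.left) (by
    show pullback.snd φ.left s.left ≫ T.hom = pullback.fst φ.left s.left ≫ X.hom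
    rw [← Over.w s, ← pullback.condition_assoc, Over.w])
  let j : P ⟶ X ⊗ T := lift pX pT
  have hj : Set.range j.left ⊆ Set.range (GIT.psi a f).left := by
    rintro _ ⟨z, rfl⟩
    let m : P.left ⟶ pullback φ.left φ.left := pullback.lift (pullback.fst φ.left s.left)
      (pullback.snd φ.left s.left ≫ f.left) (by rw [Category.assoc, ← Over.comp_left]; exact pullback.condition)
    obtain ⟨w, hw⟩ := h.orbit (m z)
    obtain ⟨q, hq1, hq2⟩ := Scheme.Pullback.exists_preimage_pullback (f := GIT.PsiY a φ h.inv) (g := m) w z hw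
    let Q : Over (Spec (CommRingCat.of k)) := Over.mk (pullback.snd (GIT.PsiY a φ h.inv) m ≫ P.hom)
    let q₂ : Q ⟶ P := Over.homMk (pullback.snd (GIT.PsiY a φ h.inv) m) rfl
    let q₁l := pullback.fst (GIT.PsiY a φ h.inv) m
    have p1 : q₁l ≫ a.act.left = q₂.left ≫ pX.left := by
      have := congrArg (fun t => t ≫ pullback.fst φ.left φ.left)
        (pullback.condition (f := GIT.PsiY a φ h.inv) (g := m))
      rw [Category.assoc, Category.assoc, show GIT.PsiY a φ h.inv ≫ pullback.fst φ.left φ.left = a.act.left from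
        pullback.lift_fst _ _ _, show m ≫ pullback.fst φ.left φ.left = pX.left from pullback.lift_fst _ _ _] at this
      exact this
    have p2 : q₁l ≫ (snd G X).left = q₂.left ≫ pT.left ≫ f.left := by
      have := congrArg (fun t => t ≫ pullback.snd φ.left φ.left)
        (pullback.condition (f := GIT.PsiY a φ h.inv) (g := m))
      rw [Category.assoc, Category.assoc, show GIT.PsiY a φ h.inv ≫ pullback.snd φ.left φ.left = (snd G X).left from
        pullback.lift_snd _ _ _, show m ≫ pullback.snd φ.left φ.left = pT.left ≫ f.left from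
        pullback.lift_snd _ _ _] at this
      exact this
    let q₁ : Q ⟶ G ⊗ X := Over.homMk q₁l (by
      show q₁l ≫ (G ⊗ X).hom = q₂.left ≫ pX.left ≫ X.hom
      rw [← Category.assoc q₂.left, ← p1, Category.assoc, Over.w])
    have e1 : q₁ ≫ a.act = q₂ ≫ pX := Over.OverMorphism.ext p1
    have e2 : q₁ ≫ snd G X = q₂ ≫ pT ≫ f := Over.OverMorphism.ext p2
    have e3 : lift (q₁ ≫ fst G X) (q₂ ≫ pT) ≫ GIT.psi a f = q₂ ≫ j := by
      rw [GIT.psi, comp_lift, comp_lift, lift_whiskerLeft_assoc, lift_snd, Category.assoc, ← e2,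
        lift_comp_fst_snd, e1]
    refine ⟨(lift (q₁ ≫ fst G X) (q₂ ≫ pT)).left q, ?_⟩
    rw [← Scheme.Hom.comp_apply, ← Over.comp_left, e3, Over.comp_left, Scheme.Hom.comp_apply]
    show j.left (pullback.snd _ m q) = _
    rw [hq2]
  have hpsi : (GIT.psi a f).left ≫ (fst X T).left ≫ φ.left = (GIT.psi a f).left ≫ (snd X T).left ≫ s.left := by
    simp only [← Over.comp_left]
    congr 1
    show GIT.psi a f ≫ fst X T ≫ φ = GIT.psi a f ≫ snd X T ≫ f ≫ φ
    rw [GIT.psi, lift_fst_assoc, lift_snd_assoc, Category.assoc, h.inv, whiskerLeft_snd_assoc]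
  let O : (X ⊗ T).left.Opens := (fst X T).left ⁻¹ᵁ (φ.left ⁻¹ᵁ D)
  have l1 : Set.range (O.ι ≫ (fst X T).left ≫ φ.left) ⊆ Set.range D.ι := by
    rintro _ ⟨z, rfl⟩
    rw [Scheme.Opens.range_ι]
    exact z.2
  have l2 : Set.range (O.ι ≫ (snd X T).left ≫ s.left) ⊆ Set.range D.ι := by
    rintro _ ⟨z, rfl⟩
    rw [Scheme.Opens.range_ι]
    exact hf ⟨(snd X T).left (O.ι z), rfl⟩
  let a1 := IsOpenImmersion.lift D.ι _ l1
  let a2 := IsOpenImmersion.lift D.ι _ l2
  haveI : IsAffine D.toScheme := hD
  let δ : D.toScheme ⟶ pullback (D.ι ≫ Y.hom) (D.ι ≫ Y.hom) := pullback.diagonal _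
  have ha : a1 ≫ D.ι ≫ Y.hom = a2 ≫ D.ι ≫ Y.hom := by
    simp only [a1, a2, IsOpenImmersion.lift_fac_assoc, Category.assoc, Over.w]
  let b := pullback.lift a1 a2 ha
  haveI : IsClosedImmersion δ := inferInstance
  let r := pullback.fst b δ
  have hclosed : IsClosed (Set.range r) := r.isClosedEmbedding.isClosed_range
  have hr : r ≫ a1 = r ≫ a2 := by
    have h1 := congrArg (· ≫ pullback.fst (D.ι ≫ Y.hom) (D.ι ≫ Y.hom)) (pullback.condition (f := b) (g := δ))
    have h2 := congrArg (· ≫ pullback.snd (D.ι ≫ Y.hom) (D.ι ≫ Y.hom)) (pullback.condition (f := b) (g := δ))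
    simp only [Category.assoc, b, δ, pullback.lift_fst, pullback.lift_snd, pullback.diagonal_fst,
      pullback.diagonal_snd] at h1 h2
    exact h1.trans h2.symm
  have hset : (fun p : (fst X T).left ⁻¹ᵁ (φ.left ⁻¹ᵁ D) => (p : (X ⊗ T).left)) ⁻¹'
      Set.range (GIT.psi a f).left.base = Set.range r := by
    ext z
    constructor
    · rintro ⟨w, hw⟩
      let R := (GIT.psi a f).left ⁻¹ᵁ O
      let c : R.toScheme ⟶ O.toScheme := (GIT.psi a f).left ∣_ O
      have hc : c ≫ a1 = c ≫ a2 := by
        rw [← cancel_mono D.ι]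
        simp only [Category.assoc, a1, a2, IsOpenImmersion.lift_fac]
        rw [← Category.assoc c O.ι, morphismRestrict_ι, Category.assoc, hpsi, ← Category.assoc,
          ← morphismRestrict_ι, Category.assoc]
      have hb : c ≫ b = (c ≫ a1) ≫ δ := by
        refine pullback.hom_ext ?_ ?_
        · rw [Category.assoc, Category.assoc, Category.assoc, pullback.lift_fst, pullback.diagonal_fst, Category.comp_id]
        · rw [Category.assoc, Category.assoc, Category.assoc, pullback.lift_snd, pullback.diagonal_snd, Category.comp_id, hc]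
      have hwR : w ∈ R := by
        show (GIT.psi a f).left w ∈ O
        rw [show (GIT.psi a f).left w = z.1 from hw]
        exact z.2
      refine ⟨pullback.lift c (c ≫ a1) hb ⟨w, hwR⟩, ?_⟩
      show r (pullback.lift c (c ≫ a1) hb ⟨w, hwR⟩) = z
      rw [← Scheme.Hom.comp_apply, pullback.lift_fst]
      refine O.ι.isOpenEmbedding.injective ?_
      show O.ι (c ⟨w, hwR⟩) = z.1
      rw [← Scheme.Hom.comp_apply, morphismRestrict_ι]
      exact hw
    · rintro ⟨e, he⟩
      have hm : (r ≫ O.ι ≫ (fst X T).left) ≫ φ.left = (r ≫ O.ι ≫ (snd X T).left) ≫ s.left := by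
        have := congrArg (· ≫ D.ι) hr
        simpa only [Category.assoc, a1, a2, IsOpenImmersion.lift_fac] using this
      let m : pullback b δ ⟶ P.left := pullback.lift _ _ hm
      let R : Over (Spec (CommRingCat.of k)) := Over.mk (m ≫ P.hom)
      let mO : R ⟶ P := Over.homMk m rfl
      have h1 : m ≫ j.left = r ≫ O.ι := by
        refine pullback.hom_ext ?_ ?_
        · show (m ≫ j.left) ≫ (fst X T).left = (r ≫ O.ι) ≫ (fst X T).left
          rw [Category.assoc, ← Over.comp_left, lift_fst, Category.assoc]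
          exact pullback.lift_fst _ _ _
        · show (m ≫ j.left) ≫ (snd X T).left = (r ≫ O.ι) ≫ (snd X T).left
          rw [Category.assoc, ← Over.comp_left, lift_snd, Category.assoc]
          exact pullback.lift_snd _ _ _
      refine hj ⟨m e, ?_⟩
      rw [← Scheme.Hom.comp_apply, h1, Scheme.Hom.comp_apply]
      show O.ι (r e) = z.1
      rw [he]
      rfl
  rw [hset]
  exact hclosed

end

end Groth.Agent.H60.TotBun
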