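import Groth.Agent.H60.TotBun.Base
import Groth.Agent.H60.TotBun.Orbit
import Groth.Agent.H60.LinB.Sections
import Groth.Agent.Lib.Ample.GG
import Groth.Agent.Lib.TensorMod.Invertible
import Mathlib.AlgebraicGeometry.Morphisms.Flat

/-!
The linearised line bundle pulled back from the base of an invariant morphism.
-/

set_option autoImplicit false
set_option linter.style.haveILetI false

universe u

open CategoryTheory Limits MonoidalCategory CartesianMonoidalCategory MonObj AlgebraicGeometry TopologicalSpace Opposite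
open Groth.Agent.H60.LinB

namespace Groth.Agent.H60.TotBun

noncomputable section

/-- A line bundle with coordinates over affine opens. -/
structure Tot (Y : Scheme.{u}) where
  J : Type u
  D : J → Y.Opens
  aff : ∀ i, IsAffineOpen (D i)
  cover : ∀ y, ∃ i, y ∈ D i
  V : Scheme.{u}
  p : V ⟶ Y
  [affine : IsAffineHom p]
  f : J → Γ(V, ⊤)
  coord : ∀ (i : J) (W : Y.Opens), IsAffineOpen W → W ≤ D i →
    Function.Bijective (Polynomial.eval₂RingHom (p.app W).hom
      (V.presheaf.map (homOfLE (le_top (a := p ⁻¹ᵁ W))).op (f i)))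
  rel : ∀ i j : J, ∃ c : Γ(Y, D i),
    V.presheaf.map (homOfLE le_top).op (f j) =
      p.app _ c * V.presheaf.map (homOfLE (le_top (a := p ⁻¹ᵁ D i))).op (f i) ∧
    Y.basicOpen c = D i ⊓ D j

attribute [instance] Tot.affine

theorem exists_tot_of_isAmple {Y : Scheme.{u}} {M : Y.Modules} (hM : CohB1.IsAmple M) : Nonempty (Tot Y) := by
  obtain ⟨m, -, N, s, haff, hcov⟩ := Groth.Agent.Lib.Ample.GG.exists_common_pow hM
  obtain ⟨V, p, hp, f, h1, h2⟩ := exists_tot (Groth.Agent.Lib.TensorMod.Invertible.isInvertible_tensorPow hM.1 m)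
    (J := ULift.{u} (Fin N)) (fun i => s i.down)
  exact ⟨{ J := ULift.{u} (Fin N), D := fun i => CohB1.genLocus _ (s i.down), aff := fun i => haff i.down,
           cover := fun y => by obtain ⟨i, hi⟩ := hcov y; exact ⟨⟨i⟩, hi⟩,
           V := V, p := p, affine := hp, f := f, coord := h1, rel := h2 }⟩

theorem bijective_eval_pushout {A B C P : CommRingCat.{u}} {a : A ⟶ B} {b : A ⟶ C} {c : B ⟶ P} {d : C ⟶ P}
    (h : IsPushout a b c d) (y : C) (hy : Function.Bijective (Polynomial.eval₂RingHom b.hom y)) :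
    Function.Bijective (Polynomial.eval₂RingHom c.hom (d y)) := by
  let ε := RingEquiv.ofBijective _ hy
  let inr : C ⟶ CommRingCat.of (Polynomial B) :=
    CommRingCat.ofHom ((Polynomial.mapRingHom a.hom).comp ε.symm.toRingHom)
  have hinr : ∀ r, inr (b r) = Polynomial.C (a r) := fun r => by
    show Polynomial.mapRingHom a.hom (ε.symm (b r)) = _
    rw [show b r = ε (Polynomial.C r) from (Polynomial.eval₂_C _ _).symm, ε.symm_apply_apply]
    simp
  have w : a ≫ CommRingCat.ofHom Polynomial.C = b ≫ inr :=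
    CommRingCat.hom_ext (RingHom.ext fun r => (hinr r).symm)
  let back : P ⟶ CommRingCat.of (Polynomial B) := h.desc _ _ w
  let fwd : CommRingCat.of (Polynomial B) ⟶ P := CommRingCat.ofHom (Polynomial.eval₂RingHom c.hom (d y))
  have hy' : inr y = Polynomial.X := by
    show Polynomial.mapRingHom a.hom (ε.symm y) = _
    rw [show y = ε Polynomial.X from (Polynomial.eval₂_X _ _).symm, ε.symm_apply_apply]
    simp
  have h1 : fwd ≫ back = 𝟙 _ := by
    refine CommRingCat.hom_ext (Polynomial.ringHom_ext (fun r => ?_) ?_)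
    · show back (Polynomial.eval₂RingHom c.hom (d y) (Polynomial.C r)) = Polynomial.C r
      rw [Polynomial.coe_eval₂RingHom, Polynomial.eval₂_C, ← CommRingCat.comp_apply, h.inl_desc]
      rfl
    · show back (Polynomial.eval₂RingHom c.hom (d y) Polynomial.X) = Polynomial.X
      rw [Polynomial.coe_eval₂RingHom, Polynomial.eval₂_X, ← CommRingCat.comp_apply, h.inr_desc, hy']
  have h2 : back ≫ fwd = 𝟙 _ := by
    refine h.hom_ext ?_ ?_
    · rw [h.inl_desc_assoc, Category.comp_id]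
      exact CommRingCat.hom_ext (RingHom.ext fun r => Polynomial.eval₂_C _ _)
    · rw [h.inr_desc_assoc, Category.comp_id]
      refine CommRingCat.hom_ext (RingHom.ext fun z => ?_)
      obtain ⟨q, rfl⟩ := hy.2 z
      show Polynomial.eval₂RingHom c.hom (d y) (Polynomial.mapRingHom a.hom (ε.symm (ε q))) = _
      rw [ε.symm_apply_apply, Polynomial.coe_mapRingHom, Polynomial.coe_eval₂RingHom, Polynomial.eval₂_map,
        Polynomial.coe_eval₂RingHom, ← CommRingCat.hom_comp, h.w, CommRingCat.hom_comp]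
      exact (Polynomial.hom_eval₂ q b.hom d.hom y).symm
  exact ⟨fun x x' hx => by
    have := congrArg back.hom hx
    rwa [show back.hom (Polynomial.eval₂RingHom c.hom (d y) x) = (fwd ≫ back) x from rfl,
      show back.hom (Polynomial.eval₂RingHom c.hom (d y) x') = (fwd ≫ back) x' from rfl, h1] at this,
    fun z => ⟨back z, by show (back ≫ fwd) z = z; rw [h2]; rfl⟩⟩

theorem rf_appTop {W W' : Scheme.{u}} (q : W' ⟶ W) {U : W.Opens} {O : W'.Opens} (e : O ≤ q ⁻¹ᵁ U)
    (x : Γ(W, ⊤)) :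
    W'.presheaf.map (homOfLE (le_top (a := O))).op (q.appTop x) =
      q.appLE U O e (W.presheaf.map (homOfLE le_top).op x) := by
  rw [← CommRingCat.comp_apply, ← CommRingCat.comp_apply, show q.appTop = q.appLE ⊤ ⊤ le_rfl from q.app_eq_appLE,
    Scheme.Hom.appLE_map, Scheme.Hom.map_appLE]

theorem isUnit_of_basicOpen {W : Scheme.{u}} {O : W.Opens} {c : Γ(W, O)} (h : W.basicOpen c = O) : IsUnit c := by
  have h1 := (RingedSpace.isUnit_res_basicOpen W.toLocallyRingedSpace.toRingedSpace c).map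
    (W.presheaf.map (homOfLE h.ge).op).hom
  change IsUnit (rf h.ge (rf (W.basicOpen_le c) c)) at h1
  rwa [rf_rf, rf_self] at h1

variable {k : Type u} [Field k] {G X Y : Over (Spec (CommRingCat.of k))} [GrpObj G]
variable {a : AlgGrp.Action G X} (φ : X ⟶ Y) (T : Tot Y.left)

/-- The pulled back total space. -/
def tV : Over (Spec (CommRingCat.of k)) := Over.mk (pullback.fst φ.left T.p ≫ X.hom)

/-- Its projection. -/
def tπ : tV φ T ⟶ X := Over.homMk (pullback.fst φ.left T.p) rfl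

/-- Its map to the total space over the base. -/
def tq : (tV φ T).left ⟶ T.V := pullback.snd φ.left T.p

/-- The pulled back section. -/
def tF (i : T.J) : Γ((tV φ T).left, ⊤) := (tq φ T).appTop (T.f i)

theorem tcond : (tπ φ T).left ≫ φ.left = tq φ T ≫ T.p := pullback.condition

theorem le_tq {O : X.left.Opens} {D : Y.left.Opens} (h : O ≤ φ.left ⁻¹ᵁ D) :
    (tπ φ T).left ⁻¹ᵁ O ≤ tq φ T ⁻¹ᵁ (T.p ⁻¹ᵁ D) := by
  rw [← Scheme.Hom.comp_preimage, ← tcond, Scheme.Hom.comp_preimage]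
  exact (tπ φ T).left.preimage_mono h

theorem rel_pull {i j : T.J} {c : Γ(Y.left, T.D i)}
    (hc : T.V.presheaf.map (homOfLE le_top).op (T.f j) =
      T.p.app _ c * T.V.presheaf.map (homOfLE (le_top (a := T.p ⁻¹ᵁ T.D i))).op (T.f i))
    {O : X.left.Opens} (hO : O ≤ φ.left ⁻¹ᵁ T.D i) :
    GLinSh.resTop (tπ φ T) O (tF φ T j) =
      (tπ φ T).left.app O (φ.left.appLE (T.D i) O hO c) * GLinSh.resTop (tπ φ T) O (tF φ T i) := by
  simp only [GLinSh.resTop, tF, rf_appTop (tq φ T) (le_tq φ T hO)]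
  rw [hc, map_mul]
  congr 1
  rw [Scheme.Hom.app_eq_appLE, Scheme.Hom.app_eq_appLE, ← CommRingCat.comp_apply, ← CommRingCat.comp_apply,
    Scheme.Hom.appLE_comp_appLE, Scheme.Hom.appLE_comp_appLE]
  exact RingHom.congr_fun (congrArg CommRingCat.Hom.hom (AffQuot.appLE_congr (tcond φ T).symm _ _ _ _)) c

variable [IsAffineHom φ.left]

/-- The atlas of the pullback. -/
def tAtlas : GLinSh.LinAtlas (tπ φ T) where
  affine := by
    exact MorphismProperty.pullback_fst (P := @IsAffineHom) φ.left T.p T.affine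
  chart U := {y | ∃ i, U ≤ φ.left ⁻¹ᵁ T.D i ∧ y = GLinSh.resTop (tπ φ T) U (tF φ T i)}
  cover x := by
    obtain ⟨i, hi⟩ := T.cover (φ.left x)
    exact ⟨φ.left ⁻¹ᵁ T.D i, hi, _, i, le_rfl, rfl⟩
  coord U y := by
    rintro ⟨i, hU, rfl⟩ W hW hWU
    let D := T.D i
    have hWD : W ≤ φ.left ⁻¹ᵁ D := hWU.trans hU
    have hr : GLinSh.res (tπ φ T) hWU (GLinSh.resTop (tπ φ T) U (tF φ T i)) =
        GLinSh.resTop (tπ φ T) W (tF φ T i) := rf_rf _ _ _
    rw [hr, GLinSh.resTop, tF, rf_appTop (tq φ T) (le_tq φ T hWD)]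
    have hUY : (tπ φ T).left ⁻¹ᵁ W = (tπ φ T).left ⁻¹ᵁ W ⊓ tq φ T ⁻¹ᵁ (T.p ⁻¹ᵁ D) :=
      (inf_eq_left.2 (le_tq φ T hWD)).symm
    have hP := (isIso_pushoutSection_iff (H := IsPullback.of_hasPullback φ.left T.p)
      (US := D) (UT := T.p ⁻¹ᵁ D) (UX := W) le_rfl hWD (UY := (tπ φ T).left ⁻¹ᵁ W) hUY).1
      (isIso_pushoutSection_of_isAffineOpen _ le_rfl hWD hUY (T.aff i) ((T.aff i).preimage T.p) hW)
    have h0 := T.coord i D (T.aff i) le_rfl
    rw [Scheme.Hom.app_eq_appLE] at h0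
    have h1 := bijective_eval_pushout hP _ h0
    rw [Scheme.Hom.app_eq_appLE]
    exact h1
  linear U U' y y' := by
    rintro ⟨i, hU, rfl⟩ ⟨j, hU', rfl⟩
    obtain ⟨c, hc, hb⟩ := T.rel i j
    have hO : U ⊓ U' ≤ φ.left ⁻¹ᵁ T.D i := inf_le_left.trans hU
    refine ⟨φ.left.appLE (T.D i) (U ⊓ U') hO c, isUnit_of_basicOpen ?_, ?_⟩
    · rw [Scheme.basicOpen_appLE, hb]
      exact inf_eq_left.2 fun z hz => ⟨hU hz.1, hU' hz.2⟩
    · show rf _ (rf _ (tF φ T j)) = _ * rf _ (rf _ (tF φ T i))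
      rw [rf_rf, rf_rf]
      exact rel_pull φ T hc hO

variable (hinv : GIT.IsInvariant a φ)

omit [IsAffineHom φ.left] in
theorem hom_ext_tV {Z : Over (Spec (CommRingCat.of k))} {f g : Z ⟶ tV φ T} (h1 : f ≫ tπ φ T = g ≫ tπ φ T)
    (h2 : f.left ≫ tq φ T = g.left ≫ tq φ T) : f = g :=
  Over.OverMorphism.ext (pullback.hom_ext (congrArg CommaMorphism.left h1) h2)

/-- The lifted action map. -/
def tAct : G ⊗ tV φ T ⟶ tV φ T :=
  Over.homMk (pullback.lift ((G ◁ tπ φ T) ≫ a.act).left ((snd G (tV φ T)).left ≫ tq φ T) (by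
    rw [Category.assoc, ← tcond, ← Category.assoc (snd G (tV φ T)).left, ← Over.comp_left, ← Over.comp_left,
      ← Over.comp_left]
    congr 1
    rw [Category.assoc, hinv, whiskerLeft_snd_assoc, Category.assoc])) (by
    show pullback.lift _ _ _ ≫ pullback.fst _ _ ≫ X.hom = _
    rw [pullback.lift_fst_assoc, Over.w])

omit [IsAffineHom φ.left] in
theorem tAct_π : tAct φ T hinv ≫ tπ φ T = (G ◁ tπ φ T) ≫ a.act :=
  Over.OverMorphism.ext (pullback.lift_fst _ _ _)

omit [IsAffineHom φ.left] in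
theorem tAct_q : (tAct φ T hinv).left ≫ tq φ T = (snd G (tV φ T)).left ≫ tq φ T := pullback.lift_snd _ _ _

/-- The lifted action. -/
def tLift : AlgGrp.Action G (tV φ T) where
  act := tAct φ T hinv
  one_act := by
    refine hom_ext_tV φ T ?_ ?_
    · rw [Category.assoc, tAct_π, ← whisker_exchange_assoc, a.one_act, leftUnitor_naturality]
    · rw [Over.comp_left, Category.assoc, tAct_q, ← Category.assoc, ← Over.comp_left, whiskerRight_snd,
        leftUnitor_hom]
  mul_act := by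
    refine hom_ext_tV φ T ?_ ?_
    · simp only [Category.assoc, tAct_π, ← whisker_exchange_assoc, a.mul_act, ← whiskerLeft_comp_assoc,
        associator_naturality_right_assoc]
    · rw [Over.comp_left, Category.assoc, tAct_q, ← Category.assoc, ← Over.comp_left, whiskerRight_snd]
      rw [Over.comp_left, Over.comp_left, Category.assoc, Category.assoc, tAct_q,
        ← Category.assoc (G ◁ tAct φ T hinv).left, ← Over.comp_left, whiskerLeft_snd, Over.comp_left, Category.assoc,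
        tAct_q, ← Category.assoc, ← Category.assoc, ← Over.comp_left, ← Over.comp_left]
      congr 2
      simp

theorem tLinear : GLinSh.IsLinearLift a (tπ φ T) (tLift φ T hinv) (tAtlas φ T).chart (tAct_π φ T hinv) := by
  rintro U U' y y' ⟨i, hU, rfl⟩ ⟨j, hU', rfl⟩
  obtain ⟨c₀, hc, -⟩ := T.rel i j
  let O₀ := a.act.left ⁻¹ᵁ U' ⊓ (snd G X).left ⁻¹ᵁ U
  have eD : O₀ ≤ ((snd G X).left ≫ φ.left) ⁻¹ᵁ T.D i := fun z hz => hU hz.2
  refine ⟨((snd G X).left ≫ φ.left).appLE (T.D i) O₀ eD c₀, ?_⟩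
  let O := GLinSh.liftOpen a (tπ φ T) U U'
  let sV := (snd G (tV φ T)).left
  have eU : O ≤ sV ⁻¹ᵁ ((tπ φ T).left ⁻¹ᵁ U) := GLinSh.liftOpen_le_snd a (tπ φ T)
  have h1 : (tAct φ T hinv).left.appLE ((tπ φ T).left ⁻¹ᵁ U') O (GLinSh.liftOpen_le_act a (tπ φ T) (tLift φ T hinv) (tAct_π φ T hinv))
      (GLinSh.resTop (tπ φ T) U' (tF φ T j)) = sV.appLE ((tπ φ T).left ⁻¹ᵁ U) O eU (GLinSh.resTop (tπ φ T) U (tF φ T j)) := by
    simp only [GLinSh.resTop, ← rf_appTop _ _ (tF φ T j)]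
    congr 1
    simp only [tF, ← CommRingCat.comp_apply, ← Scheme.Hom.comp_appTop, sV, tAct_q]
  show (tAct φ T hinv).left.appLE _ _ _ _ = _
  rw [h1, rel_pull φ T hc hU, map_mul]
  congr 1
  rw [Scheme.Hom.app_eq_appLE, ← CommRingCat.comp_apply, ← CommRingCat.comp_apply, ← CommRingCat.comp_apply,
    Scheme.Hom.appLE_comp_appLE, Scheme.Hom.appLE_comp_appLE, Scheme.Hom.appLE_comp_appLE]
  refine RingHom.congr_fun (congrArg CommRingCat.Hom.hom (AffQuot.appLE_congr ?_ _ _ _ _)) c₀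
  simp only [sV, ← Over.comp_left, Category.assoc, whiskerLeft_snd_assoc]

/-- The linearised line bundle. -/
def tBun : GLinSh.LinBun G a :=
  ⟨tV φ T, tπ φ T, tAtlas φ T, tLift φ T hinv, tAct_π φ T hinv, tLinear φ T hinv⟩

theorem tF_inv (i : T.J) : (tBun φ T hinv).IsInvSection 1 (tF φ T i) := by
  refine ⟨?_, ?_⟩
  · rintro U y ⟨j, hU, rfl⟩
    obtain ⟨c, hc, -⟩ := T.rel j i
    exact ⟨φ.left.appLE (T.D j) U hU c, by rw [pow_one]; exact rel_pull φ T hc hU⟩
  · show (tAct φ T hinv).left.appTop ((tq φ T).appTop (T.f i)) = (snd G (tV φ T)).left.appTop ((tq φ T).appTop (T.f i))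
    rw [← CommRingCat.comp_apply, ← CommRingCat.comp_apply, ← Scheme.Hom.comp_appTop, ← Scheme.Hom.comp_appTop,
      tAct_q]

theorem Xf_tF (i : T.J) : Xf (tBun φ T hinv) (tF_inv φ T hinv i).1 = φ.left ⁻¹ᵁ T.D i := by
  ext x
  obtain ⟨j, hj⟩ := T.cover (φ.left x)
  obtain ⟨c, hc, hb⟩ := T.rel j i
  have hW : φ.left ⁻¹ᵁ T.D j ≤ φ.left ⁻¹ᵁ T.D j := le_rfl
  have h := Xf_inf (tBun φ T hinv) (tF_inv φ T hinv i).1
    (y := GLinSh.resTop (tπ φ T) (φ.left ⁻¹ᵁ T.D j) (tF φ T j)) ⟨j, le_rfl, rfl⟩ hW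
    (c := φ.left.appLE (T.D j) (φ.left ⁻¹ᵁ T.D j) le_rfl c) (by
      rw [pow_one]
      exact (rel_pull φ T hc le_rfl).trans (congrArg _ (rf_self _).symm))
  rw [Scheme.basicOpen_appLE, hb] at h
  have h2 := Opens.ext_iff.1 h
  constructor
  · intro hx
    exact ((Set.ext_iff.1 h2 x).1 ⟨hx, hj⟩).2.2
  · intro hx
    exact ((Set.ext_iff.1 h2 x).2 ⟨hj, hj, hx⟩).1

theorem loci : (tBun φ T hinv).ssLocus = Set.univ ∧
    (GIT.IsGeomQuot a φ → (tBun φ T hinv).sLocus = Set.univ) := by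
  have hmem : ∀ x i, φ.left x ∈ T.D i → x ∈ GLinSh.nonvanishing (tBun φ T hinv).π (tF φ T i) := fun x i h => by
    have : x ∈ φ.left ⁻¹ᵁ T.D i := h
    rw [← Xf_tF φ T hinv i] at this
    exact this
  have hU : ∀ i, ((φ.left ⁻¹ᵁ T.D i : X.left.Opens) : Set X.left) =
      GLinSh.nonvanishing (tBun φ T hinv).π (tF φ T i) := fun i => by rw [← Xf_tF φ T hinv i]; rfl
  refine ⟨Set.eq_univ_of_forall fun x => ?_, fun hg => Set.eq_univ_of_forall fun x => ?_⟩
  all_goals obtain ⟨i, hi⟩ := T.cover (φ.left x)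
  · exact ⟨1, _, le_rfl, tF_inv φ T hinv i, hmem x i hi, _, hU i, (T.aff i).preimage φ.left⟩
  · exact ⟨1, _, le_rfl, tF_inv φ T hinv i, hmem x i hi, _, hU i, (T.aff i).preimage φ.left,
      closedOrbitsOn_preimage hg (T.aff i)⟩

end

end Groth.Agent.H60.TotBun
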